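import Cfsg.Agent.Lib.ExtremelyPrimitive.Twist
import Mathlib.GroupTheory.GroupAction.Primitive

/-!
Minimal normal subgroups of extremely primitive groups which are not almost simple are abelian.
-/

set_option autoImplicit false
set_option maxHeartbeats 2000000

namespace Cfsg.Agent.Lib.ExtremelyPrimitive

open MulAction
open scoped commutatorElement

universe u

variable {G : Type u} [Group G]

/-- Conjugate of a subgroup. -/
abbrev cj (g : G) (S : Subgroup G) : Subgroup G := S.map (MulAut.conj g).toMonoidHom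

theorem cj_one (S : Subgroup G) : cj 1 S = S := by
  ext z; simp [cj]

theorem cj_cj (a b : G) (S : Subgroup G) : cj a (cj b S) = cj (a * b) S := by
  show (S.map _).map _ = _
  rw [Subgroup.map_map]
  congr 1
  ext z
  simp [mul_assoc]

theorem conj_mem_cj {a s : G} {S : Subgroup G} (hs : s ∈ S) : a * s * a⁻¹ ∈ cj a S :=
  ⟨s, hs, rfl⟩

variable [Finite G] {Ω : Type*} [Finite Ω] [MulAction G Ω] [FaithfulSMul G Ω]

/-- A minimal normal subgroup of an extremely primitive group that is not almost simple is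
abelian. -/
theorem minimal_normal_comm (hprim : IsPreprimitive G Ω)
    (hep : ∀ α ω : Ω, IsPreprimitive (stabilizer G α) (orbit (stabilizer G α) ω))
    [Nontrivial Ω]
    (hnas : ¬ ∃ T : Subgroup G, T.Normal ∧ IsSimpleGroup T ∧ ¬ IsMulCommutative T ∧
      Subgroup.centralizer (T : Set G) = ⊥)
    (N : Subgroup G) [hN : N.Normal] (hN1 : N ≠ ⊥)
    (hmin : ∀ M : Subgroup G, M.Normal → M ≤ N → M = ⊥ ∨ M = N) :
    ∀ x ∈ N, ∀ y ∈ N, x * y = y * x := by
  classical
  by_contra hna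
  haveI := hprim
  haveI := hprim.toIsPretransitive
  -- the components of `N`
  let P : Subgroup G → Prop := fun S => S ≤ N ∧ S ≠ ⊥ ∧ ∀ n ∈ N, ∀ s ∈ S, n * s * n⁻¹ ∈ S
  have hPN : P N := ⟨le_rfl, hN1, fun n hn s hs => N.mul_mem (N.mul_mem hn hs) (N.inv_mem hn)⟩
  obtain ⟨T, hPT, hTmin⟩ := exists_minimal_of_wellFoundedLT P ⟨N, hPN⟩
  have hPc : ∀ g : G, ∀ S, P S → P (cj g S) := by
    rintro g S ⟨hS, hS1, hSn⟩
    refine ⟨?_, fun h => hS1 ((Subgroup.map_eq_bot_iff_of_injective _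
      (MulAut.conj g).injective).mp h), ?_⟩
    · rintro _ ⟨s, hs, rfl⟩
      exact hN.conj_mem s (hS hs) g
    · rintro n hn _ ⟨s, hs, rfl⟩
      refine ⟨(g⁻¹ * n * g) * s * (g⁻¹ * n * g)⁻¹, hSn _ ?_ s hs, ?_⟩
      · simpa using hN.conj_mem n hn g⁻¹
      · simp [mul_assoc]
  let IsC : Subgroup G → Prop := fun S => ∃ g, cj g T = S
  have hCT : IsC T := ⟨1, cj_one T⟩
  have hCc : ∀ a : G, ∀ S, IsC S → IsC (cj a S) := by
    rintro a _ ⟨g, rfl⟩
    exact ⟨a * g, (cj_cj a g T).symm⟩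
  have hCP : ∀ S, IsC S → P S := by rintro _ ⟨g, rfl⟩; exact hPc g T hPT
  have hCmin : ∀ S, IsC S → ∀ X, P X → X ≤ S → X = S := by
    rintro _ ⟨g, rfl⟩ X hX hle
    have h2 : cj g⁻¹ X ≤ T := by
      have := Subgroup.map_mono (f := (MulAut.conj g⁻¹).toMonoidHom) hle
      change cj g⁻¹ X ≤ cj g⁻¹ (cj g T) at this
      rwa [cj_cj, inv_mul_cancel, cj_one] at this
    have h1 : cj g⁻¹ X = T := le_antisymm h2 (hTmin (hPc g⁻¹ X hX) h2)
    rw [← h1, cj_cj, mul_inv_cancel, cj_one]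
  have hNfix : ∀ n ∈ N, ∀ S, IsC S → cj n S = S := by
    intro n hn S hS
    refine hCmin S hS _ (hPc n S (hCP S hS)) ?_
    rintro _ ⟨s, hs, rfl⟩
    exact (hCP S hS).2.2 n hn s hs
  have hdisj : ∀ S S', IsC S → IsC S' → S ≠ S' → ∀ x ∈ S, x ∈ S' → x = 1 := by
    intro S S' hS hS' hne x hx hx'
    by_contra hx1
    have hP : P (S ⊓ S') := ⟨inf_le_left.trans (hCP S hS).1,
      fun h => hx1 ((Subgroup.eq_bot_iff_forall _).mp h x ⟨hx, hx'⟩),
      fun n hn s hs => ⟨(hCP S hS).2.2 n hn s hs.1, (hCP S' hS').2.2 n hn s hs.2⟩⟩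
    exact hne ((hCmin S hS _ hP inf_le_left).symm.trans (hCmin S' hS' _ hP inf_le_right))
  have hcomm : ∀ S S', IsC S → IsC S' → S ≠ S' → ∀ x ∈ S, ∀ y ∈ S', x * y = y * x := by
    intro S S' hS hS' hne x hx y hy
    have h1 : x * y * x⁻¹ * y⁻¹ ∈ S' :=
      mul_mem ((hCP S' hS').2.2 x ((hCP S hS).1 hx) y hy) (inv_mem hy)
    have h2 : x * y * x⁻¹ * y⁻¹ ∈ S := by
      have := (hCP S hS).2.2 y ((hCP S' hS').1 hy) x⁻¹ (inv_mem hx)
      have h' := S.mul_mem hx this
      simpa [mul_assoc] using h'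
    have h3 := hdisj S S' hS hS' hne _ h2 h1
    rwa [mul_inv_eq_one, mul_inv_eq_iff_eq_mul] at h3
  have hgen : ∀ R : Subgroup G, (∀ S, IsC S → S ≤ R) → N ≤ R := by
    intro R hR
    have hM : Subgroup.normalClosure (T : Set G) = N :=
      (hmin _ Subgroup.normalClosure_normal (Subgroup.normalClosure_le_normal hPT.1)).resolve_left
        fun h => hPT.2.1 (eq_bot_iff.mpr (h ▸ Subgroup.le_normalClosure))
    rw [← hM]
    refine (Subgroup.closure_le _).mpr fun z hz => ?_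
    obtain ⟨s, hs, hsz⟩ := Group.mem_conjugatesOfSet_iff.mp hz
    obtain ⟨g, rfl⟩ := isConj_iff.mp hsz
    exact hR _ ⟨g, rfl⟩ ⟨s, hs, rfl⟩
  have hcent : ∀ x : G, (∀ S, IsC S → ∀ y ∈ S, y * x = x * y) → ∀ y ∈ N, y * x = x * y := by
    intro x hx y hy
    have : N ≤ Subgroup.centralizer {x} :=
      hgen _ fun S hS z hz => Subgroup.mem_centralizer_singleton_iff.mpr (hx S hS z hz)
    exact Subgroup.mem_centralizer_singleton_iff.mp (this hy)
  -- `T` is not abelian and has trivial centre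
  have hTna : ¬ ∀ x ∈ T, ∀ y ∈ T, x * y = y * x := by
    intro hab
    refine hna fun x hx y hy => hcent y (fun S hS a ha => (hcent a (fun S' hS' b hb => ?_) y hy).symm) x hx
    by_cases he : S' = S
    · subst he
      obtain ⟨g, rfl⟩ := hS'
      obtain ⟨u, hu, rfl⟩ := hb
      obtain ⟨v, hv, rfl⟩ := ha
      rw [← map_mul, ← map_mul, hab u hu v hv]
    · exact hcomm S' S hS' hS he b hb a ha
  have hSna : ∀ S, IsC S → ¬ ∀ x ∈ S, ∀ y ∈ S, x * y = y * x := by
    rintro _ ⟨g, rfl⟩ hab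
    refine hTna fun x hx y hy => ?_
    have := hab _ (conj_mem_cj (a := g) hx) _ (conj_mem_cj (a := g) hy)
    have h2 := congrArg (fun z => g⁻¹ * z * g) this
    simpa [mul_assoc] using h2
  have hZ : ∀ S, IsC S → ∀ x ∈ S, (∀ y ∈ S, x * y = y * x) → x = 1 := by
    intro S hS x hx hxc
    by_contra hx1
    refine hSna S hS ?_
    have hP : P (S ⊓ Subgroup.centralizer (S : Set G)) := by
      refine ⟨inf_le_left.trans (hCP S hS).1, fun h => hx1 ((Subgroup.eq_bot_iff_forall _).mp h x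
        ⟨hx, Subgroup.mem_centralizer_iff.mpr fun y hy => (hxc y hy).symm⟩), ?_⟩
      intro n hn s hs
      refine ⟨(hCP S hS).2.2 n hn s hs.1, Subgroup.mem_centralizer_iff.mpr fun y hy => ?_⟩
      have hy' := (hCP S hS).2.2 n⁻¹ (N.inv_mem hn) y hy
      have := Subgroup.mem_centralizer_iff.mp hs.2 _ hy'
      calc y * (n * s * n⁻¹) = n * ((n⁻¹ * y * n⁻¹⁻¹) * s) * n⁻¹ := by group
        _ = n * (s * (n⁻¹ * y * n⁻¹⁻¹)) * n⁻¹ := by rw [this]
        _ = n * s * n⁻¹ * y := by group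
    intro u hu v hv
    have hu' : u ∈ S ⊓ Subgroup.centralizer (S : Set G) :=
      (hCmin S hS _ hP inf_le_left).symm ▸ hu
    exact (Subgroup.mem_centralizer_iff.mp hu'.2 v hv).symm
  -- projections
  let Pr : Subgroup G → G → G → Prop := fun S n t => t ∈ S ∧ ∀ x ∈ S, n * x * n⁻¹ = t * x * t⁻¹
  have pr_mul : ∀ {S n t n' t'}, Pr S n t → Pr S n' t' → Pr S (n * n') (t * t') := by
    rintro S n t n' t' ⟨ht, h⟩ ⟨ht', h'⟩
    refine ⟨mul_mem ht ht', fun x hx => ?_⟩
    calc n * n' * x * (n * n')⁻¹ = n * (n' * x * n'⁻¹) * n⁻¹ := by group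
      _ = n * (t' * x * t'⁻¹) * n⁻¹ := by rw [h' x hx]
      _ = t * (t' * x * t'⁻¹) * t⁻¹ := h _ (mul_mem (mul_mem ht' hx) (inv_mem ht'))
      _ = t * t' * x * (t * t')⁻¹ := by group
  have pr_inv : ∀ {S n t}, Pr S n t → Pr S n⁻¹ t⁻¹ := by
    rintro S n t ⟨ht, h⟩
    refine ⟨inv_mem ht, fun x hx => ?_⟩
    have h1 := h _ (mul_mem (mul_mem (inv_mem ht) hx) ht)
    calc n⁻¹ * x * n⁻¹⁻¹ = n⁻¹ * (t * (t⁻¹ * x * t) * t⁻¹) * n := by group
      _ = n⁻¹ * (n * (t⁻¹ * x * t) * n⁻¹) * n := by rw [h1]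
      _ = t⁻¹ * x * t⁻¹⁻¹ := by group
  have pr_self : ∀ {S s}, s ∈ S → Pr S s s := fun {S s} hs => ⟨hs, fun _ _ => rfl⟩
  have pr_other : ∀ {S S' s}, IsC S → IsC S' → S' ≠ S → s ∈ S' → Pr S s 1 := by
    intro S S' s hS hS' hne hs
    refine ⟨one_mem _, fun x hx => ?_⟩
    rw [hcomm S' S hS' hS hne s hs x hx]
    group
  have pr_uniq : ∀ {S n t t'}, IsC S → Pr S n t → Pr S n t' → t = t' := by
    rintro S n t t' hS ⟨ht, h⟩ ⟨ht', h'⟩
    have hkey := hZ S hS (t'⁻¹ * t) (mul_mem (inv_mem ht') ht) fun y hy => ?_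
    · rwa [inv_mul_eq_one, eq_comm] at hkey
    have hh := (h y hy).symm.trans (h' y hy)
    calc t'⁻¹ * t * y = t'⁻¹ * (t * y * t⁻¹) * t := by group
      _ = t'⁻¹ * (t' * y * t'⁻¹) * t := by rw [hh]
      _ = y * (t'⁻¹ * t) := by group
  have pr_cj : ∀ {S n t} (a : G), Pr S n t → Pr (cj a S) (a * n * a⁻¹) (a * t * a⁻¹) := by
    rintro S n t a ⟨ht, h⟩
    refine ⟨conj_mem_cj ht, ?_⟩
    rintro _ ⟨x, hx, rfl⟩
    show a * n * a⁻¹ * (a * x * a⁻¹) * (a * n * a⁻¹)⁻¹ =
      a * t * a⁻¹ * (a * x * a⁻¹) * (a * t * a⁻¹)⁻¹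
    calc a * n * a⁻¹ * (a * x * a⁻¹) * (a * n * a⁻¹)⁻¹ = a * (n * x * n⁻¹) * a⁻¹ := by group
      _ = a * (t * x * t⁻¹) * a⁻¹ := by rw [h x hx]
      _ = _ := by group
  have pr_exists : ∀ S, IsC S → ∀ n ∈ N, ∃ t, Pr S n t := by
    intro S hS
    let R : Subgroup G :=
      { carrier := {n | ∃ t, Pr S n t}
        one_mem' := ⟨1, pr_self (one_mem S)⟩
        mul_mem' := fun ⟨_, h⟩ ⟨_, h'⟩ => ⟨_, pr_mul h h'⟩
        inv_mem' := fun ⟨_, h⟩ => ⟨_, pr_inv h⟩ }
    refine hgen R fun S' hS' z hz => ?_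
    by_cases he : S' = S
    · exact ⟨z, pr_self (he ▸ hz)⟩
    · exact ⟨1, pr_other hS hS' he hz⟩
  have pr_all : ∀ n ∈ N, (∀ S, IsC S → Pr S n 1) → n = 1 := by
    intro n hn h
    have hc : ∀ y ∈ N, y * n = n * y := hcent n fun S hS y hy => by
      have := (h S hS).2 y hy
      rw [one_mul, inv_one, mul_one, mul_inv_eq_iff_eq_mul] at this
      exact this.symm
    by_contra hn1
    refine hna fun x hx y hy => ?_
    have hM : N ⊓ Subgroup.centralizer (N : Set G) = N :=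
      (hmin _ inferInstance inf_le_left).resolve_left fun hb => hn1
        ((Subgroup.eq_bot_iff_forall _).mp hb n ⟨hn, Subgroup.mem_centralizer_iff.mpr hc⟩)
    exact (Subgroup.mem_centralizer_iff.mp (hM.symm ▸ hx : x ∈ N ⊓ _).2 y hy).symm
  -- point stabilizer
  obtain ⟨α⟩ : Nonempty Ω := inferInstance
  set H := stabilizer G α with hH
  have hHco : IsCoatom H := IsPreprimitive.isCoatom_stabilizer_of_isPreprimitive G α
  have hNtrans : IsPretransitive N Ω := by
    refine IsQuasiPreprimitive.isPretransitive_of_normal fun h => hN1 ?_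
    rw [Subgroup.eq_bot_iff_forall]
    intro m hm
    refine eq_of_smul_eq_smul fun ω : Ω => ?_
    rw [one_smul]
    have : ω ∈ fixedPoints N Ω := h.symm ▸ Set.mem_univ ω
    exact this ⟨m, hm⟩
  have hNH : ∀ g : G, ∃ n ∈ N, ∃ h ∈ H, g = n * h := by
    intro g
    obtain ⟨⟨n, hn⟩, hng⟩ := exists_smul_eq N α (g • α)
    have hng' : n • α = g • α := hng
    refine ⟨n, hn, n⁻¹ * g, ?_, by group⟩
    rw [hH, mem_stabilizer_iff, mul_smul, ← hng', inv_smul_smul]
  have hNle : ¬ N ≤ H := fun h => hHco.1 (eq_top_iff.mpr fun g _ => by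
    obtain ⟨n, hn, k, hk, rfl⟩ := hNH g
    exact mul_mem (h hn) hk)
  have hHC : ∀ S, IsC S → ∃ h ∈ H, cj h T = S := by
    rintro _ ⟨g, rfl⟩
    obtain ⟨n, hn, k, hk, rfl⟩ := hNH g
    exact ⟨k, hk, by rw [← cj_cj, hNfix n hn _ (hCc k T hCT)]⟩
  have hHbot : H ≠ ⊥ := by
    intro hb
    obtain ⟨x, hx, hx1⟩ := (Subgroup.bot_or_exists_ne_one N).resolve_left hN1
    rw [hb] at hHco
    have hz : Subgroup.zpowers x = ⊤ := hHco.2 _ (bot_lt_iff_ne_bot.mpr (by simpa using hx1))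
    refine hna fun a _ b _ => ?_
    obtain ⟨i, rfl⟩ := Subgroup.mem_zpowers_iff.mp (hz ▸ Subgroup.mem_top a)
    obtain ⟨j, rfl⟩ := Subgroup.mem_zpowers_iff.mp (hz ▸ Subgroup.mem_top b)
    exact (Commute.zpow_zpow_self x i j).eq
  have hfix : ∀ n : G, (∀ h ∈ H, n⁻¹ * h * n ∈ H) → n ∈ H := by
    intro n hn
    have h1 : n⁻¹ ∈ subStab MulAut.conj H := (mem_subStab_iff _).mpr fun x hx => by
      simpa [MulAut.conj_apply] using hn x hx
    have hle : H ≤ subStab MulAut.conj H := fun a ha => (mem_subStab_iff _).mpr fun x hx =>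
      mul_mem (mul_mem ha hx) (inv_mem ha)
    rcases hHco.le_iff.mp hle with h | h
    · exfalso
      apply hHbot
      rw [Subgroup.eq_bot_iff_forall]
      intro x hx
      refine eq_of_smul_eq_smul fun ω : Ω => ?_
      rw [one_smul]
      obtain ⟨g, rfl⟩ := exists_smul_eq G α ω
      have := (mem_subStab_iff MulAut.conj).mp (h ▸ Subgroup.mem_top g⁻¹ : g⁻¹ ∈ _) x hx
      rw [MulAut.conj_apply, inv_inv, hH, mem_stabilizer_iff, mul_smul, mul_smul,
        inv_smul_eq_iff] at this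
      exact this
    · exact (inv_mem_iff).mp (h ▸ h1)
  -- suborbits
  set D := N ⊓ H with hD
  let L : G → Subgroup G := fun n => H ⊓ stabilizer G (n • α)
  have memL : ∀ {n h}, n ∈ N → h ∈ H → (h ∈ L n ↔ n⁻¹ * (h * n * h⁻¹) ∈ D) := by
    intro n h hn hh
    constructor
    · intro hm
      refine Subgroup.mem_inf.mpr ⟨mul_mem (inv_mem hn) (hN.conj_mem n hn h), ?_⟩
      have h2 : h • n • α = n • α := hm.2
      rw [hH, mem_stabilizer_iff, mul_smul, mul_smul, mul_smul,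
        show h⁻¹ • α = α from inv_smul_eq_iff.mpr (show h • α = α from hh).symm,
        h2, inv_smul_smul]
    · intro hm
      refine ⟨hh, ?_⟩
      have h2 := (mem_stabilizer_iff.mp (hm.2 : _ ∈ stabilizer G α))
      rw [mul_smul, mul_smul, mul_smul,
        show h⁻¹ • α = α from inv_smul_eq_iff.mpr (show h • α = α from hh).symm,
        inv_smul_eq_iff] at h2
      exact h2
  have hLle : ∀ n, L n ≤ H := fun n => inf_le_left
  have hLne : ∀ {n}, n ∉ H → L n ≠ H := by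
    intro n hn hL
    refine hn (hfix n fun h hh => ?_)
    have h2 : h • n • α = n • α := (hL.symm ▸ hh : h ∈ L n).2
    rw [hH, mem_stabilizer_iff, mul_smul, mul_smul, h2, inv_smul_smul]
  have hLmax : ∀ {n}, n ∉ H → ∀ K, L n ≤ K → K ≤ H → K ≠ H → K = L n := by
    intro n hn K hLK hKH hKne
    haveI := hep α (n • α)
    haveI : Nontrivial (orbit H (n • α)) := by
      by_contra hc
      rw [not_nontrivial_iff_subsingleton] at hc
      refine hLne hn (le_antisymm inf_le_left fun h hh => ⟨hh, ?_⟩)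
      exact congrArg Subtype.val (Subsingleton.elim
        (⟨h • n • α, ⟨⟨h, hh⟩, rfl⟩⟩ : orbit H (n • α)) ⟨n • α, mem_orbit_self _⟩)
    have hco := IsPreprimitive.isCoatom_stabilizer_of_isPreprimitive H
      (⟨n • α, mem_orbit_self _⟩ : orbit H (n • α))
    have hle : stabilizer H (⟨n • α, mem_orbit_self _⟩ : orbit H (n • α)) ≤ K.subgroupOf H := by
      intro h hh
      rw [Subgroup.mem_subgroupOf]
      exact hLK ⟨h.2, congrArg Subtype.val (mem_stabilizer_iff.mp hh)⟩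
    rcases hco.le_iff.mp hle with h | h
    · exact absurd (le_antisymm hKH (Subgroup.subgroupOf_eq_top.mp h)) hKne
    · refine le_antisymm (fun x hx => ⟨hKH hx, ?_⟩) hLK
      have : (⟨x, hKH hx⟩ : H) ∈ stabilizer H (⟨n • α, mem_orbit_self _⟩ : orbit H (n • α)) :=
        h ▸ Subgroup.mem_subgroupOf.mpr hx
      exact congrArg Subtype.val (mem_stabilizer_iff.mp this)
  let W : Subgroup G := subStab MulAut.conj T
  have memW : ∀ {g}, g ∈ W ↔ cj g T = T := fun {g} => Iff.rfl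
  have hNW : N ≤ W := fun n hn => hNfix n hn T hCT
  obtain ⟨t₀, ht₀, ht₀1⟩ := (Subgroup.bot_or_exists_ne_one T).resolve_left hPT.2.1
  by_cases hsimple : ∀ S, IsC S → S = T
  · -- `N` is simple
    have hNT : N = T := le_antisymm (hgen T fun S hS => (hsimple S hS).le) hPT.1
    haveI : Nontrivial N := (Subgroup.nontrivial_iff_ne_bot N).mpr hN1
    haveI hsimp : IsSimpleGroup N := by
      refine ⟨fun X hX => ?_⟩
      by_cases hX1 : X = ⊥
      · exact Or.inl hX1
      right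
      have hXmap : X.map N.subtype = T := hCmin T hCT _ ⟨Subgroup.map_subtype_le _,
        fun h => hX1 ((Subgroup.map_eq_bot_iff_of_injective _ N.subtype_injective).mp h), by
        rintro n hn _ ⟨s, hs, rfl⟩
        exact ⟨⟨n, hn⟩ * s * ⟨n, hn⟩⁻¹, hX.conj_mem s hs _, rfl⟩⟩
        (hNT ▸ Subgroup.map_subtype_le _)
      rw [eq_top_iff]
      intro s _
      obtain ⟨u, hu, he⟩ := (hXmap.symm ▸ (hNT.le s.2) : (s : G) ∈ X.map N.subtype)
      rwa [← Subtype.ext he]
    have hnaN : ¬ ∀ a b : N, a * b = b * a := fun h => hna fun x hx y hy =>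
      congrArg Subtype.val (h ⟨x, hx⟩ ⟨y, hy⟩)
    have hC1 : Subgroup.centralizer (N : Set G) ≠ ⊥ := fun h =>
      hnas ⟨N, hN, hsimp, fun h' => hnaN fun a b => h'.is_comm.comm a b, h⟩
    have hCtrans : IsPretransitive (Subgroup.centralizer (N : Set G)) Ω := by
      refine IsQuasiPreprimitive.isPretransitive_of_normal fun h => hC1 ?_
      rw [Subgroup.eq_bot_iff_forall]
      intro m hm
      refine eq_of_smul_eq_smul fun ω : Ω => ?_
      rw [one_smul]
      have : ω ∈ fixedPoints (Subgroup.centralizer (N : Set G)) Ω := h.symm ▸ Set.mem_univ ω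
      exact this ⟨m, hm⟩
    have hDb : ∀ x ∈ D, x = 1 := by
      intro x hx
      refine eq_of_smul_eq_smul fun ω : Ω => ?_
      obtain ⟨⟨c, hc⟩, hcω⟩ := exists_smul_eq (Subgroup.centralizer (N : Set G)) α ω
      have hcω' : c • α = ω := hcω
      rw [one_smul, ← hcω', ← mul_smul, Subgroup.mem_centralizer_iff.mp hc x hx.1, mul_smul,
        show x • α = α from hx.2]
    have hex : ∀ u : N, ∃ h : H, ∀ x ∈ N, (h : G) * x * (h : G)⁻¹ = u * x * (u : G)⁻¹ := by
      intro u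
      obtain ⟨⟨c, hc⟩, hcu⟩ := exists_smul_eq (Subgroup.centralizer (N : Set G)) α ((u : G) • α)
      have hcu' : c • α = (u : G) • α := hcu
      refine ⟨⟨c⁻¹ * u, ?_⟩, fun x hx => ?_⟩
      · rw [hH, mem_stabilizer_iff, mul_smul, ← hcu', inv_smul_smul]
      · show c⁻¹ * (u : G) * x * (c⁻¹ * u)⁻¹ = _
        have := Subgroup.mem_centralizer_iff.mp hc _ (N.mul_mem (N.mul_mem u.2 hx) (N.inv_mem u.2))
        calc c⁻¹ * (u : G) * x * (c⁻¹ * u)⁻¹ = c⁻¹ * ((u * x * (u : G)⁻¹) * c) := by group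
          _ = c⁻¹ * (c * (u * x * (u : G)⁻¹)) := by rw [this]
          _ = _ := by group
    choose ι hι using hex
    let φ : H →* MulAut N := (MulAut.conjNormal (H := N)).comp H.subtype
    have hφ : ∀ (h : H) (x : N), ((φ h x : N) : G) = h * x * (h : G)⁻¹ :=
      fun h x => MulAut.conjNormal_apply _ _
    have hι' : ∀ u x, φ (ι u) x = u * x * u⁻¹ := fun u x => Subtype.ext (by
      rw [hφ]; exact hι u x x.2)
    have hkey : ∀ t : N, t ≠ 1 → IsCoatom (subStab φ (Subgroup.zpowers t)) ∧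
        ∀ h ∈ subStab φ (Subgroup.zpowers t), φ h t = t := by
      intro t ht
      have htH : (t : G) ∉ H := fun h => ht (Subtype.ext (hDb _ ⟨t.2, h⟩))
      have hLfix : ∀ h : H, (h : G) ∈ L t → φ h t = t := by
        intro h hh
        have := hDb _ ((memL t.2 h.2).mp hh)
        rw [inv_mul_eq_one] at this
        exact Subtype.ext ((hφ h t).trans this.symm)
      have hne : subStab φ (Subgroup.zpowers t) ≠ ⊤ := by
        intro h
        have hn : (Subgroup.zpowers t).Normal := ⟨fun x hx g => by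
          rw [← hι']
          exact (mem_subStab_iff φ).mp (h ▸ Subgroup.mem_top (ι g)) x hx⟩
        rcases hn.eq_bot_or_eq_top with h' | h'
        · exact ht (by simpa using h')
        · refine hnaN fun a b => ?_
          obtain ⟨i, rfl⟩ := Subgroup.mem_zpowers_iff.mp (h' ▸ Subgroup.mem_top a)
          obtain ⟨j, rfl⟩ := Subgroup.mem_zpowers_iff.mp (h' ▸ Subgroup.mem_top b)
          exact (Commute.zpow_zpow_self t i j).eq
      have heq : (subStab φ (Subgroup.zpowers t)).map H.subtype = L t := by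
        refine hLmax htH _ (fun x hx => ⟨⟨x, hx.1⟩, ?_, rfl⟩) (Subgroup.map_subtype_le _)
          fun h => hne (eq_top_iff.mpr fun x _ => ?_)
        · refine (mem_subStab_iff φ).mpr fun y hy => ?_
          obtain ⟨i, rfl⟩ := hy
          rw [map_zpow, hLfix ⟨x, hx.1⟩ hx]
          exact ⟨i, rfl⟩
        · obtain ⟨y, hy, he⟩ : (x : G) ∈ (subStab φ (Subgroup.zpowers t)).map H.subtype := by rw [h]; exact x.2
          rwa [← Subtype.ext he]
      have hfx : ∀ h ∈ subStab φ (Subgroup.zpowers t), φ h t = t := fun h hh =>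
        hLfix h (heq ▸ ⟨h, hh, rfl⟩)
      refine ⟨⟨hne, fun K hK => ?_⟩, hfx⟩
      by_contra hKne
      have hK2 : K.map H.subtype = L t := by
        refine hLmax htH _ (heq ▸ Subgroup.map_mono hK.le) (Subgroup.map_subtype_le _)
          fun h => hKne (eq_top_iff.mpr fun x _ => ?_)
        obtain ⟨y, hy, he⟩ := (h.symm ▸ x.2 : (x : G) ∈ K.map H.subtype)
        rwa [← Subtype.ext he]
      exact hK.ne (Subgroup.map_injective H.subtype_injective (heq.trans hK2.symm))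
    refine false_of_twist hnaN φ ι hι' (fun t ht => (hkey t ht).1) fun t u ht hu => ?_
    have := (hkey t ht).2 _ hu
    rw [hι', mul_inv_eq_iff_eq_mul] at this
    exact this
  push Not at hsimple
  obtain ⟨S₁, hS₁, hS₁T⟩ := hsimple
  obtain ⟨h₁, hh₁, rfl⟩ := hHC S₁ hS₁
  have hHW : ¬ H ≤ W := fun h => hS₁T (memW.mp (h hh₁))
  have hHWne : H ⊓ W ≠ H := fun h => hHW (inf_eq_left.mp h)
  -- the two cases for `D`
  have hDnorm : ∀ h ∈ H, ∀ d ∈ D, h * d * h⁻¹ ∈ D := fun h hh d hd =>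
    Subgroup.mem_inf.mpr ⟨hN.conj_mem d hd.1 h, mul_mem (mul_mem hh hd.2) (inv_mem hh)⟩
  have hTD : ¬ T ≤ D := fun h => hNle (hgen H fun S hS => by
    obtain ⟨k, hk, rfl⟩ := hHC S hS
    rintro _ ⟨x, hx, rfl⟩
    exact (hDnorm k hk x (h hx)).2)
  have hDS : (∀ x ∈ T, x ∈ D → x = 1) → ∀ S, IsC S → ∀ x ∈ S, x ∈ D → x = 1 := by
    intro h S hS x hx hxD
    obtain ⟨k, hk, rfl⟩ := hHC S hS
    obtain ⟨y, hy, rfl⟩ := hx
    have h1 := hDnorm k⁻¹ (inv_mem hk) _ hxD
    have : y = 1 := h y hy (by simpa [mul_assoc] using h1)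
    simp [this]
  let Q : Subgroup G :=
    { carrier := {n | n ∈ N ∧ ∀ S, IsC S → ∃ d ∈ D, ∃ t, Pr S n t ∧ Pr S d t}
      one_mem' := ⟨one_mem _, fun S _ => ⟨1, one_mem _, 1, pr_self (one_mem S), pr_self (one_mem S)⟩⟩
      mul_mem' := fun ⟨ha, h⟩ ⟨hb, h'⟩ => ⟨mul_mem ha hb, fun S hS => by
        obtain ⟨d, hd, t, h1, h2⟩ := h S hS
        obtain ⟨d', hd', t', h1', h2'⟩ := h' S hS
        exact ⟨_, mul_mem hd hd', _, pr_mul h1 h1', pr_mul h2 h2'⟩⟩
      inv_mem' := fun ⟨ha, h⟩ => ⟨inv_mem ha, fun S hS => by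
        obtain ⟨d, hd, t, h1, h2⟩ := h S hS
        exact ⟨_, inv_mem hd, _, pr_inv h1, pr_inv h2⟩⟩ }
  have hQN : Q ≤ N := fun n hn => hn.1
  have hDQ : D ≤ Q := fun d hd => ⟨hd.1, fun S hS => by
    obtain ⟨t, ht⟩ := pr_exists S hS d hd.1
    exact ⟨d, hd, t, ht, ht⟩⟩
  have hHQ : H ≤ Subgroup.normalizer (Q : Set G) := by
    intro h hh
    refine Subgroup.mem_normalizer_fintype (S := (Q : Set G)) fun n hn => ?_
    refine ⟨hN.conj_mem n hn.1 h, fun S hS => ?_⟩
    obtain ⟨d, hd, t, h1, h2⟩ := hn.2 (cj h⁻¹ S) (hCc _ S hS)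
    have he : cj h (cj h⁻¹ S) = S := by rw [cj_cj, mul_inv_cancel, cj_one]
    exact ⟨_, hDnorm h hh d hd, _, he ▸ pr_cj h h1, he ▸ pr_cj h h2⟩
  rcases hHco.le_iff.mp (le_sup_left : H ≤ H ⊔ Q) with hsup | hsup
  swap
  · -- product type
    have hprod : ∀ S, IsC S → ∀ d ∈ D, ∀ s, Pr S d s → s ∈ D := by
      intro S hS d hd s hs
      have hsQ : s ∈ Q := by
        refine ⟨(hCP S hS).1 hs.1, fun S' hS' => ?_⟩
        by_cases he : S' = S
        · subst he
          exact ⟨d, hd, s, pr_self hs.1, hs⟩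
        · exact ⟨1, one_mem _, 1, pr_other hS' hS (Ne.symm he) hs.1, pr_self (one_mem S')⟩
      exact ⟨hQN hsQ, hsup.le (Subgroup.mem_sup_right hsQ)⟩
    have hstab : ∀ t ∈ T, t ∉ H → H ⊓ W = L t := by
      intro t ht htH
      refine hLmax htH _ (fun h hh => ⟨hh.1, ?_⟩) inf_le_left hHWne
      by_contra hne
      have hm := (memL (hPT.1 ht) hh.1).mp hh
      have hpr : Pr T (t⁻¹ * (h * t * h⁻¹)) (t⁻¹ * 1) := pr_mul (pr_self (inv_mem ht))
        (pr_other hCT (hCc h T hCT) (fun e => hne (memW.mpr e)) (conj_mem_cj ht))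
      rw [mul_one] at hpr
      exact htH (inv_mem_iff.mp (hprod T hCT _ hm _ hpr).2)
    have hDT : ∀ x ∈ T, x ∈ D → x = 1 := by
      intro x hx hxD
      by_contra hx1
      have hP : P (D ⊓ T) := by
        refine ⟨inf_le_right.trans hPT.1, fun h => hx1 ((Subgroup.eq_bot_iff_forall _).mp h x
          ⟨hxD, hx⟩), fun n hn s hs => ⟨?_, hPT.2.2 n hn s hs.2⟩⟩
        obtain ⟨t, htT, ht⟩ := pr_exists T hCT n hn
        rw [ht s hs.2]
        by_cases htH : t ∈ H
        · exact hDnorm t htH s hs.1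
        have htH' : t⁻¹ ∉ H := fun h => htH (inv_mem_iff.mp h)
        have hsL : s ∈ L t⁻¹ := (hstab t⁻¹ (inv_mem htT) htH').le
          ⟨hs.1.2, hNW (hPT.1 hs.2)⟩
        have := mul_mem ((memL (inv_mem (hPT.1 htT)) hs.1.2).mp hsL) hs.1
        simpa [mul_assoc] using this
      exact hTD (fun y hy => ((hCmin T hCT _ hP inf_le_right).symm ▸ hy : y ∈ D ⊓ T).1)
    have hDb : ∀ d ∈ D, d = 1 := fun d hd => pr_all d hd.1 fun S hS => by
      obtain ⟨s, hs⟩ := pr_exists S hS d hd.1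
      have := hDS hDT S hS s hs.1 (hprod S hS d hd s hs)
      rwa [this] at hs
    have hnotH : ∀ {n}, n ∈ N → n ≠ 1 → n ∉ H := fun {n} hn hn1 h => hn1 (hDb n ⟨hn, h⟩)
    have hLcent : ∀ {n h}, n ∈ N → h ∈ L n → h * n * h⁻¹ = n := fun {n h} hn hh =>
      (inv_mul_eq_one.mp (hDb _ ((memL hn hh.1).mp hh))).symm
    have hWcent : ∀ h ∈ H ⊓ W, ∀ t ∈ T, h * t * h⁻¹ = t := by
      intro h hh t ht
      rcases eq_or_ne t 1 with rfl | ht1
      · simp
      · exact hLcent (hPT.1 ht) ((hstab t ht (hnotH (hPT.1 ht) ht1)).le hh)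
    have hall : ∀ S, IsC S → ∀ h ∈ H ⊓ W, cj h S = S := by
      intro S hS h hh
      by_cases hST : S = T
      · subst hST; exact hh.2
      by_contra hne
      have hswap : ∀ s ∈ S, s ≠ 1 → ∃ g ∈ H, cj g T = S ∧ cj g S = T ∧ g * t₀ * g⁻¹ = s := by
        intro s hs hs1
        by_contra hcon
        push Not at hcon
        have hn : t₀ * s ∈ N := mul_mem (hPT.1 ht₀) ((hCP S hS).1 hs)
        have hprT : Pr T (t₀ * s) t₀ := by
          have := pr_mul (pr_self ht₀) (pr_other hCT hS hST hs)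
          rwa [mul_one] at this
        have hprS : Pr S (t₀ * s) s := by
          have := pr_mul (pr_other hS hCT (Ne.symm hST) ht₀) (pr_self hs)
          rwa [one_mul] at this
        have hn1 : t₀ * s ≠ 1 := fun e => ht₀1 (pr_uniq hCT hprT (by rw [e]; exact pr_self (one_mem T)))
        have hsupp : ∀ A, IsC A → A ≠ T → A ≠ S → Pr A (t₀ * s) 1 := by
          intro A hA hAT hAS
          have := pr_mul (pr_other hA hCT (Ne.symm hAT) ht₀) (pr_other hA hS (Ne.symm hAS) hs)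
          rwa [one_mul] at this
        have hmove : ∀ g ∈ L (t₀ * s), ∀ A a, IsC A → Pr A (t₀ * s) a → a ≠ 1 →
            (cj g A = T ∧ g * a * g⁻¹ = t₀) ∨ (cj g A = S ∧ g * a * g⁻¹ = s) := by
          intro g hg A a hA ha ha1
          have h1 := pr_cj g ha
          rw [hLcent hn hg] at h1
          have hA' := hCc g A hA
          by_cases e1 : cj g A = T
          · exact Or.inl ⟨e1, pr_uniq hCT (e1 ▸ h1) hprT⟩
          by_cases e2 : cj g A = S
          · exact Or.inr ⟨e2, pr_uniq hS (e2 ▸ h1) hprS⟩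
          have := pr_uniq hA' h1 (hsupp _ hA' e1 e2)
          exact absurd (conj_eq_one_iff.mp this) ha1
        have hLW : L (t₀ * s) ≤ H ⊓ W := by
          intro g hg
          refine ⟨hg.1, ?_⟩
          rcases hmove g hg T t₀ hCT hprT ht₀1 with ⟨e, -⟩ | ⟨e, e'⟩
          · exact e
          rcases hmove g hg S s hS hprS hs1 with ⟨e2, -⟩ | ⟨e2, -⟩
          · exact absurd e' (hcon g hg.1 e e2)
          · refine absurd ?_ hST
            have := congrArg (cj g⁻¹) (e2.trans e.symm)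
            rwa [cj_cj, cj_cj, inv_mul_cancel, cj_one, cj_one] at this
        have hg := (hLmax (hnotH hn hn1) _ hLW inf_le_left hHWne).le hh
        rcases hmove h hg S s hS hprS hs1 with ⟨e2, -⟩ | ⟨e2, -⟩
        · rcases hmove h hg T t₀ hCT hprT ht₀1 with ⟨e, -⟩ | ⟨e, -⟩
          · refine hST ?_
            have := congrArg (cj h⁻¹) (e2.trans e.symm)
            rwa [cj_cj, cj_cj, inv_mul_cancel, cj_one, cj_one] at this
          · exact hST ((e.symm.trans (hh.2 : cj h T = T)))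
        · exact hne e2
      obtain ⟨a, ha, b, hb, hab⟩ : ∃ a ∈ S, ∃ b ∈ S, a * b ≠ b * a := by
        have := hSna S hS; push Not at this; exact this
      have ha1 : a ≠ 1 := fun e => hab (by simp [e])
      have hb1 : b ≠ 1 := fun e => hab (by simp [e])
      obtain ⟨g, hg, hgT, hgS, hga⟩ := hswap a ha ha1
      obtain ⟨g', hg', hgT', hgS', hgb⟩ := hswap b hb hb1
      have hW : g⁻¹ * g' ∈ H ⊓ W := Subgroup.mem_inf.mpr ⟨mul_mem (inv_mem hg) hg', memW.mpr (by
        rw [← cj_cj, hgT', ← hgT, cj_cj, inv_mul_cancel, cj_one])⟩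
      have := hWcent _ hW t₀ ht₀
      apply hab
      have hba : b = a := by
        rw [← hgb, ← hga]
        calc g' * t₀ * g'⁻¹ = g * ((g⁻¹ * g') * t₀ * (g⁻¹ * g')⁻¹) * g⁻¹ := by group
          _ = _ := by rw [this]
      rw [hba]
    have hWb : ∀ h ∈ H ⊓ W, h = 1 := by
      intro h hh
      refine eq_of_smul_eq_smul fun ω : Ω => ?_
      obtain ⟨⟨n, hn⟩, hnω⟩ := exists_smul_eq N α ω
      have hnω' : n • α = ω := hnω
      have hc := hcent h (fun S hS y hy => ?_) n hn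
      · rw [one_smul, ← hnω', ← mul_smul, ← hc, mul_smul, show h • α = α from hh.1]
      obtain ⟨k, hk, hkS⟩ := hHC S hS
      subst hkS
      obtain ⟨x, hx, rfl⟩ := hy
      have hW' : k⁻¹ * h * k ∈ H ⊓ W := Subgroup.mem_inf.mpr ⟨mul_mem (mul_mem (inv_mem hk) hh.1) hk, memW.mpr (by
        rw [mul_assoc, ← cj_cj, ← cj_cj, hall _ hS h hh, cj_cj, inv_mul_cancel, cj_one])⟩
      have h1 := hWcent _ hW' x hx
      show k * x * k⁻¹ * h = h * (k * x * k⁻¹)
      calc k * x * k⁻¹ * h = k * (k⁻¹ * h * k * x * (k⁻¹ * h * k)⁻¹) * k⁻¹ * h := by rw [h1]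
        _ = _ := by group
    -- the whole of `H` is generated by `h₁`
    have hgenH : ∀ g ∈ H, g ∈ Subgroup.zpowers h₁ := by
      have ht₀H := hnotH (hPT.1 ht₀) ht₀1
      have hLb : ∀ x ∈ L t₀, x = 1 := fun x hx => hWb x ((hstab t₀ ht₀ ht₀H).ge hx)
      by_contra hcon
      have hz : Subgroup.zpowers h₁ = L t₀ := hLmax ht₀H _
        (fun x hx => by rw [hLb x hx]; exact one_mem _) (Subgroup.zpowers_le.mpr hh₁)
        fun e => hcon (fun g hg => e.ge hg)
      exact hS₁T (by rw [hLb h₁ (hz ▸ Subgroup.mem_zpowers h₁), cj_one])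
    set p := orderOf h₁ with hp
    let a : ℕ → G := fun i => h₁ ^ i * t₀ * (h₁ ^ i)⁻¹
    have haT : ∀ i, a i ∈ cj (h₁ ^ i) T := fun i => conj_mem_cj ht₀
    have haN : ∀ i, a i ∈ N := fun i => hN.conj_mem _ (hPT.1 ht₀) _
    have hne : ∀ i, 0 < i → i < p → cj (h₁ ^ i) T ≠ T := by
      intro i hi hip e
      have := hWb _ ⟨pow_mem hh₁ i, memW.mpr e⟩
      exact absurd (Nat.le_of_dvd hi (orderOf_dvd_of_pow_eq_one this)) (not_le.mpr hip)
    let f : ℕ → G := fun k => Nat.rec 1 (fun i r => r * a i) k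
    have hf0 : f 0 = 1 := rfl
    have hfs : ∀ k, f (k + 1) = f k * a k := fun k => rfl
    have hshift : ∀ k, f (k + 1) = a 0 * (h₁ * f k * h₁⁻¹) := by
      intro k
      induction k with
      | zero => rw [hfs, hf0]; simp
      | succ k ih =>
        conv_lhs => rw [hfs (k + 1), ih]
        rw [hfs k]
        simp [a, pow_succ', mul_assoc]
    have hfN : ∀ k, f k ∈ N := by
      intro k
      induction k with
      | zero => rw [hf0]; exact one_mem _
      | succ k ih => rw [hfs]; exact mul_mem ih (haN k)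
    have hfT : ∀ k, k < p → Pr T (f (k + 1)) t₀ ∧ Commute (f (k + 1)) (a 0) := by
      intro k
      induction k with
      | zero =>
        intro _
        rw [hfs, hf0, one_mul]
        refine ⟨?_, Commute.refl _⟩
        simp only [a, pow_zero, one_mul, inv_one, mul_one]
        exact pr_self ht₀
      | succ k ih =>
        intro hk
        obtain ⟨h1, h2⟩ := ih (by omega)
        have hne' := hne (k + 1) (by omega) hk
        rw [hfs (k + 1)]
        refine ⟨?_, h2.mul_left (hcomm _ T (hCc _ T hCT) hCT hne' _ (haT (k + 1)) _ ?_)⟩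
        · have := pr_mul h1 (pr_other hCT (hCc _ T hCT) hne' (haT (k + 1)))
          rwa [mul_one] at this
        · simpa [a] using ht₀
    have hp0 : 0 < p := orderOf_pos h₁
    obtain ⟨hnT, hnc⟩ := hfT (p - 1) (by omega)
    rw [Nat.sub_add_cancel hp0] at hnT hnc
    have hcen : h₁ * f p * h₁⁻¹ = f p := by
      have h1 := hshift p
      rw [hfs p, show a p = a 0 by simp [a, hp, pow_orderOf_eq_one]] at h1
      rw [hnc.eq] at h1
      exact (mul_left_cancel h1).symm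
    have hmem : f p ∈ H := hfix _ fun h hh => by
      obtain ⟨i, rfl⟩ := hgenH h hh
      have hc : Commute h₁ (f p) := mul_inv_eq_iff_eq_mul.mp hcen
      show (f p)⁻¹ * h₁ ^ i * f p ∈ H
      rw [mul_assoc, (hc.zpow_left i).eq, inv_mul_cancel_left]
      exact zpow_mem hh₁ i
    have := hDb _ ⟨hfN p, hmem⟩
    rw [this] at hnT
    exact ht₀1 (pr_uniq hCT hnT (pr_self (one_mem T)))
  -- diagonal type
  have hQtop : ∀ n ∈ N, n ∈ Q := by
    intro n hn
    have hn' : n ∈ ((H ⊔ Q : Subgroup G) : Set G) := hsup ▸ Subgroup.mem_top n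
    rw [Subgroup.coe_mul_of_left_le_normalizer_right H Q hHQ] at hn'
    obtain ⟨h, hh, q, hq, rfl⟩ := hn'
    have hhN : h ∈ N := by
      have := mul_mem hn (inv_mem (hQN hq))
      simpa using this
    exact mul_mem (hDQ ⟨hhN, hh⟩) hq
  have hfull : ∀ S, IsC S → ∀ s ∈ S, ∃ d ∈ D, Pr S d s := by
    intro S hS s hs
    obtain ⟨d, hd, t, h1, h2⟩ := (hQtop s ((hCP S hS).1 hs)).2 S hS
    rw [pr_uniq hS (pr_self hs) h1]
    exact ⟨d, hd, h2⟩
  have hDT : ∀ x ∈ T, x ∈ D → x = 1 := by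
    intro x hx hxD
    by_contra hx1
    have hP : P (D ⊓ T) := by
      refine ⟨inf_le_right.trans hPT.1, fun h => hx1 ((Subgroup.eq_bot_iff_forall _).mp h x
        ⟨hxD, hx⟩), fun n hn s hs => ⟨?_, hPT.2.2 n hn s hs.2⟩⟩
      obtain ⟨t, ht⟩ := pr_exists T hCT n hn
      obtain ⟨d, hd, hdt⟩ := hfull T hCT t ht.1
      rw [ht.2 s hs.2, ← hdt.2 s hs.2]
      exact D.mul_mem (D.mul_mem hd hs.1) (D.inv_mem hd)
    exact hTD (fun y hy => ((hCmin T hCT _ hP inf_le_right).symm ▸ hy : y ∈ D ⊓ T).1)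
  have hD1 := hDS hDT
  have hnotH : ∀ {S s}, IsC S → s ∈ S → s ≠ 1 → s ∉ H := fun {S s} hS hs hs1 h =>
    hs1 (hD1 S hS s hs ⟨(hCP S hS).1 hs, h⟩)
  -- elements of `D` do not all fix the same suborbit point
  have hDL : ∀ t ∈ T, t ≠ 1 → ¬ D ≤ L t := by
    intro t ht ht1 hle
    refine ht1 (hZ T hCT t ht fun y hy => ?_)
    obtain ⟨d, hd, hdy⟩ := hfull T hCT y hy
    have h1 := (memL (hPT.1 ht) hd.2).mp (hle hd)
    have h2 := hD1 T hCT _ (mul_mem (inv_mem ht) (hPT.2.2 d hd.1 t ht)) h1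
    rw [inv_mul_eq_one, hdy.2 t ht, eq_comm, mul_inv_eq_iff_eq_mul] at h2
    exact h2.symm
  -- pairs of components linked by `D`
  let Pair : Subgroup G → Subgroup G → Prop := fun S S' =>
    IsC S ∧ IsC S' ∧ S' ≠ S ∧ ∃ a ∈ S, ∃ b ∈ S', a * b ∈ D ∧ a ≠ 1
  have pair_symm : ∀ {S S'}, Pair S S' → Pair S' S := by
    rintro S S' ⟨hS, hS', hne, a, ha, b, hb, hab, ha1⟩
    refine ⟨hS', hS, Ne.symm hne, b, hb, a, ha, by rwa [hcomm S' S hS' hS hne b hb a ha], ?_⟩
    rintro rfl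
    rw [mul_one] at hab
    exact ha1 (hD1 S hS a ha hab)
  have pair_cj : ∀ {S S' h}, h ∈ H → Pair S S' → Pair (cj h S) (cj h S') := by
    rintro S S' h hh ⟨hS, hS', hne, a, ha, b, hb, hab, ha1⟩
    refine ⟨hCc h S hS, hCc h S' hS', fun e => hne ?_, _, conj_mem_cj ha, _, conj_mem_cj hb, ?_,
      fun e => ha1 (conj_eq_one_iff.mp e)⟩
    · have := congrArg (cj h⁻¹) e
      rwa [cj_cj, cj_cj, inv_mul_cancel, cj_one, cj_one] at this
    · have := hDnorm h hh _ hab
      convert this using 1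
      group
  have pair_full : ∀ {S S'}, Pair S S' → ∀ x ∈ S, ∃ y ∈ S', x * y ∈ D := by
    rintro S S' ⟨hS, hS', hne, a, ha, b, hb, hab, ha1⟩
    let X : Subgroup G :=
      { carrier := {x | x ∈ S ∧ ∃ y ∈ S', x * y ∈ D}
        one_mem' := ⟨one_mem _, 1, one_mem _, by simp⟩
        mul_mem' := by
          rintro x x' ⟨hx, y, hy, hxy⟩ ⟨hx', y', hy', hxy'⟩
          refine ⟨mul_mem hx hx', y * y', mul_mem hy hy', ?_⟩
          have := mul_mem hxy hxy'
          rwa [Commute.mul_mul_mul_comm (hcomm S' S hS' hS hne y hy x' hx') x y'] at this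
        inv_mem' := by
          rintro x ⟨hx, y, hy, hxy⟩
          refine ⟨inv_mem hx, y⁻¹, inv_mem hy, ?_⟩
          have := inv_mem hxy
          rwa [← hcomm S' S hS' hS hne y hy x hx, mul_inv_rev] at this }
    have hX : X = S := hCmin S hS X ⟨fun x hx => (hCP S hS).1 hx.1,
      fun h => ha1 ((Subgroup.eq_bot_iff_forall _).mp h a ⟨ha, b, hb, hab⟩), by
      rintro n hn x ⟨hx, y, hy, hxy⟩
      obtain ⟨t, ht⟩ := pr_exists S hS n hn
      obtain ⟨d, hd, hdt⟩ := hfull S hS t ht.1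
      refine ⟨(hCP S hS).2.2 n hn x hx, d * y * d⁻¹, (hCP S' hS').2.2 d hd.1 y hy, ?_⟩
      rw [ht.2 x hx, ← hdt.2 x hx]
      have := D.mul_mem (D.mul_mem hd hxy) (D.inv_mem hd)
      convert this using 1
      group⟩ (fun x hx => hx.1)
    intro x hx
    exact (hX.symm ▸ hx : x ∈ X).2
  have pair_uniq : ∀ {S A B}, Pair S A → Pair S B → A = B := by
    intro S A B hA hB
    by_contra hne
    refine hSna S hA.1 fun x hx y hy => ?_
    obtain ⟨u, hu, hxu⟩ := pair_full hA x hx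
    obtain ⟨v, hv, hyv⟩ := pair_full hB y hy
    have h1 : Commute u y := hcomm A S hA.2.1 hA.1 hA.2.2.1 u hu y hy
    have h2 : Commute u v := hcomm A B hA.2.1 hB.2.1 hne u hu v hv
    have h3 : Commute v x := hcomm B S hB.2.1 hA.1 hB.2.2.1 v hv x hx
    have hd : x * y * x⁻¹ * y⁻¹ ∈ D := by
      have := D.mul_mem (D.mul_mem (D.mul_mem hxu hyv) (D.inv_mem hxu)) (D.inv_mem hyv)
      convert this using 1
      calc x * y * x⁻¹ * y⁻¹ = x * y * (v * x⁻¹ * v⁻¹) * y⁻¹ := by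
            rw [h3.inv_right.eq, mul_inv_cancel_right]
        _ = x * (u * (y * v) * u⁻¹) * x⁻¹ * v⁻¹ * y⁻¹ := by
            rw [(h1.mul_right h2).eq, mul_inv_cancel_right]; group
        _ = _ := by group
    have := hD1 S hA.1 _ (mul_mem (mul_mem (mul_mem hx hy) (inv_mem hx)) (inv_mem hy)) hd
    rwa [mul_inv_eq_one, mul_inv_eq_iff_eq_mul] at this
  have hmoved : ∀ t ∈ T, t ≠ 1 → ∀ h ∈ L t, cj h T ≠ T → Pair T (cj h T) := by
    intro t ht ht1 h hh hne
    exact ⟨hCT, hCc h T hCT, hne, t⁻¹, inv_mem ht, h * t * h⁻¹, conj_mem_cj ht,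
      (memL (hPT.1 ht) hh.1).mp hh, inv_ne_one.mpr ht1⟩
  obtain ⟨T', hTT'⟩ : ∃ T', Pair T T' := by
    by_contra hcon
    push Not at hcon
    refine hDL t₀ ht₀ ht₀1 ?_
    rw [← hLmax (hnotH hCT ht₀ ht₀1) (H ⊓ W) (fun h hh => ⟨hh.1, by
      by_contra hne
      exact hcon _ (hmoved t₀ ht₀ ht₀1 h hh hne)⟩) inf_le_left hHWne]
    exact fun d hd => ⟨hd.2, hNW hd.1⟩
  let B : Subgroup G :=
    { carrier := {h | h ∈ H ∧ (cj h T = T ∨ cj h T = T') ∧ (cj h T' = T ∨ cj h T' = T')}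
      one_mem' := ⟨one_mem _, Or.inl (cj_one T), Or.inr (cj_one T')⟩
      mul_mem' := by
        rintro x y ⟨hx, hx1, hx2⟩ ⟨hy, hy1, hy2⟩
        refine ⟨mul_mem hx hy, ?_, ?_⟩
        · rcases hy1 with e | e <;> rw [← cj_cj, e] <;> assumption
        · rcases hy2 with e | e <;> rw [← cj_cj, e] <;> assumption
      inv_mem' := by
        rintro x ⟨hx, hx1, hx2⟩
        have hb : ∀ A A', cj x A = A' → cj x⁻¹ A' = A := fun A A' e => by
          rw [← e, cj_cj, inv_mul_cancel, cj_one]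
        have hne : cj x T ≠ cj x T' := fun e => hTT'.2.2.1 (by
          have := congrArg (cj x⁻¹) e
          rwa [cj_cj, cj_cj, inv_mul_cancel, cj_one, cj_one, eq_comm] at this)
        refine ⟨inv_mem hx, ?_, ?_⟩
        · rcases hx1 with e | e
          · exact Or.inl (hb _ _ e)
          · rcases hx2 with e' | e'
            · exact Or.inr (hb _ _ e')
            · exact absurd (e.trans e'.symm) hne
        · rcases hx1 with e | e
          · rcases hx2 with e' | e'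
            · exact absurd (e.trans e'.symm) hne
            · exact Or.inr (hb _ _ e')
          · exact Or.inl (hb _ _ e) }
  have hLB : ∀ t ∈ T, t ≠ 1 → L t ≤ B := by
    intro t ht ht1 h hh
    by_cases e : cj h T = T
    · refine ⟨hh.1, Or.inl e, Or.inr (pair_uniq ?_ hTT')⟩
      have := pair_cj hh.1 hTT'
      rwa [e] at this
    · have e' : cj h T = T' := pair_uniq (hmoved t ht ht1 h hh e) hTT'
      refine ⟨hh.1, Or.inr e', Or.inl (pair_uniq ?_ (pair_symm hTT'))⟩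
      have := pair_cj hh.1 hTT'
      rwa [e'] at this
  have hBH : B = H := by
    by_contra hne
    refine hDL t₀ ht₀ ht₀1 ?_
    rw [← hLmax (hnotH hCT ht₀ ht₀1) B (hLB t₀ ht₀ ht₀1) (fun x hx => hx.1) hne]
    exact fun d hd => ⟨hd.2, Or.inl (hNfix d hd.1 T hCT), Or.inr (hNfix d hd.1 T' hTT'.2.1)⟩
  have htwo : ∀ S, IsC S → S = T ∨ S = T' := by
    intro S hS
    obtain ⟨k, hk, rfl⟩ := hHC S hS
    exact (hBH.symm.le hk).2.1
  have hinj : ∀ A, IsC A → ∀ d ∈ D, Pr A d 1 → d = 1 := by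
    intro A hA d hd hdA
    obtain ⟨A', hA', hA'ne⟩ : ∃ A', IsC A' ∧ A' ≠ A ∧ ∀ S, IsC S → S = A ∨ S = A' := by
      rcases htwo A hA with rfl | rfl
      · exact ⟨T', hTT'.2.1, hTT'.2.2.1, htwo⟩
      · exact ⟨T, hCT, Ne.symm hTT'.2.2.1, fun S hS => (htwo S hS).symm⟩
    obtain ⟨b, hb⟩ := pr_exists A' hA' d hd.1
    have hdb : d * b⁻¹ = 1 := by
      refine pr_all _ (mul_mem hd.1 (inv_mem ((hCP A' hA').1 hb.1))) fun S hS => ?_
      rcases hA'ne.2 S hS with rfl | rfl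
      · have := pr_mul hdA (pr_other hA hA' hA'ne.1 (inv_mem hb.1))
        rwa [mul_one] at this
      · have := pr_mul hb (pr_self (inv_mem hb.1))
        rwa [mul_inv_cancel] at this
    exact hD1 A' hA' d ((mul_inv_eq_one.mp hdb) ▸ hb.1) hd
  have hinj2 : ∀ A, IsC A → ∀ d ∈ D, ∀ e ∈ D, ∀ a, Pr A d a → Pr A e a → d = e := by
    intro A hA d hd e he a h1 h2
    have := pr_mul h1 (pr_inv h2)
    rw [mul_inv_cancel] at this
    exact mul_inv_eq_one.mp (hinj A hA _ (mul_mem hd (inv_mem he)) this)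
  -- the action of `H` on `D`
  let D' : Subgroup H := D.subgroupOf H
  haveI : D'.Normal := ⟨fun x hx g => hDnorm g g.2 x hx⟩
  let φ : H →* MulAut D' := MulAut.conjNormal
  have hφ : ∀ (h : H) (x : D'), (((φ h x : D') : H) : G) = h * ((x : H) : G) * (h : G)⁻¹ :=
    fun h x => by simp [φ, MulAut.conjNormal_apply]
  have hpr : ∀ x : D', ∃ a : T, Pr T ((x : H) : G) a := fun x => by
    obtain ⟨a, ha⟩ := pr_exists T hCT ((x : H) : G) (x.2 : ((x : H) : G) ∈ D).1
    exact ⟨⟨a, ha.1⟩, ha⟩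
  choose e he using hpr
  let eh : D' →* T := MonoidHom.mk' e fun x y =>
    Subtype.ext (pr_uniq hCT (he (x * y)) (pr_mul (he x) (he y)))
  have ebij : Function.Bijective eh := by
    constructor
    · intro x y hxy
      have := hinj2 T hCT _ x.2 _ y.2 _ (he x) (show Pr T ((y : H) : G) (e x) by
        rw [show e x = e y from hxy]; exact he y)
      exact Subtype.ext (Subtype.ext this)
    · intro a
      obtain ⟨d, hd, hda⟩ := hfull T hCT a a.2
      exact ⟨⟨⟨d, hd.2⟩, hd⟩, Subtype.ext (pr_uniq hCT (he ⟨⟨d, hd.2⟩, hd⟩) hda)⟩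
  haveI : Nontrivial T := (Subgroup.nontrivial_iff_ne_bot T).mpr hPT.2.1
  haveI hTsimp : IsSimpleGroup T := by
    refine ⟨fun X hX => ?_⟩
    by_cases hX1 : X = ⊥
    · exact Or.inl hX1
    right
    have hXmap : X.map T.subtype = T := hCmin T hCT _ ⟨(Subgroup.map_subtype_le _).trans hPT.1,
      fun h => hX1 ((Subgroup.map_eq_bot_iff_of_injective _ T.subtype_injective).mp h), by
      rintro n hn _ ⟨s, hs, rfl⟩
      obtain ⟨t, ht⟩ := pr_exists T hCT n hn
      exact ⟨⟨t, ht.1⟩ * s * ⟨t, ht.1⟩⁻¹, hX.conj_mem s hs _, (ht.2 s s.2).symm⟩⟩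
      (Subgroup.map_subtype_le _)
    rw [eq_top_iff]
    intro s _
    obtain ⟨u, hu, hus⟩ := (hXmap.symm ▸ s.2 : (s : G) ∈ X.map T.subtype)
    rwa [← Subtype.ext hus]
  let ee : D' ≃* T := MulEquiv.ofBijective eh ebij
  haveI : Nontrivial D' := ee.toEquiv.nontrivial
  haveI : IsSimpleGroup D' := MulEquiv.isSimpleGroup ee
  have hnaD : ¬ ∀ a b : D', a * b = b * a := fun h => hTna fun x hx y hy => by
    have := congrArg ee (h (ee.symm ⟨x, hx⟩) (ee.symm ⟨y, hy⟩))
    rw [map_mul, map_mul, ee.apply_symm_apply, ee.apply_symm_apply] at this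
    exact congrArg Subtype.val this
  have hkey : ∀ d : D', d ≠ 1 → IsCoatom (subStab φ (Subgroup.zpowers d)) ∧
      ∀ u : D', (u : H) ∈ subStab φ (Subgroup.zpowers d) → Commute u d := by
    intro d hd1
    set a : G := (e d : G) with hadef
    have hpa : Pr T ((d : H) : G) a := he d
    have haN : a ∈ N := hPT.1 hpa.1
    have ha1 : a ≠ 1 := fun h => hd1 (Subtype.ext (Subtype.ext
      (hinj T hCT _ d.2 (h ▸ hpa))))
    have hconj : ∀ h : H, (h : G) ∈ L a →
        (cj (h : G) T = T ∧ φ h d = d) ∨ (φ h d = d⁻¹) := by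
      intro h hh
      have hm := (memL haN h.2).mp hh
      have hpc : Pr (cj (h : G) T) ((h : G) * ((d : H) : G) * (h : G)⁻¹) ((h : G) * a * (h : G)⁻¹) :=
        pr_cj _ hpa
      have hdD : (h : G) * ((d : H) : G) * (h : G)⁻¹ ∈ D := hDnorm _ h.2 _ d.2
      by_cases e1 : cj (h : G) T = T
      · left
        refine ⟨e1, ?_⟩
        have h2 : (h : G) * a * (h : G)⁻¹ ∈ T := e1 ▸ conj_mem_cj hpa.1
        have h3 := inv_mul_eq_one.mp (hD1 T hCT _ (mul_mem (inv_mem hpa.1) h2) hm)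
        rw [e1, ← h3] at hpc
        exact Subtype.ext (Subtype.ext ((hφ h d).trans (hinj2 T hCT _ hdD _ d.2 a hpc hpa)))
      · right
        have hS' := hCc (h : G) T hCT
        have p1 : Pr T (a⁻¹ * ((h : G) * a * (h : G)⁻¹)) (a⁻¹ * 1) :=
          pr_mul (pr_self (inv_mem hpa.1)) (pr_other hCT hS' e1 (conj_mem_cj hpa.1))
        rw [mul_one] at p1
        have q1 := hinj2 T hCT _ hm _ (inv_mem d.2) _ p1 (pr_inv hpa)
        have p2 : Pr (cj (h : G) T) (a⁻¹ * ((h : G) * a * (h : G)⁻¹)) (1 * ((h : G) * a * (h : G)⁻¹)) :=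
          pr_mul (pr_other hS' hCT (Ne.symm e1) (inv_mem hpa.1)) (pr_self (conj_mem_cj hpa.1))
        rw [one_mul] at p2
        exact Subtype.ext (Subtype.ext ((hφ h d).trans
          ((hinj2 _ hS' _ hdD _ hm _ hpc p2).trans q1)))
    have hne : subStab φ (Subgroup.zpowers d) ≠ ⊤ := by
      intro h
      have hn : (Subgroup.zpowers d).Normal := ⟨fun x hx g => by
        have := (mem_subStab_iff φ).mp (h ▸ Subgroup.mem_top (g : H)) x hx
        convert this using 1
        exact Subtype.ext (by simp [φ, MulAut.conjNormal_apply])⟩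
      rcases hn.eq_bot_or_eq_top with h' | h'
      · exact hd1 (by simpa using h')
      · refine hnaD fun x y => ?_
        obtain ⟨i, rfl⟩ := Subgroup.mem_zpowers_iff.mp (h' ▸ Subgroup.mem_top x)
        obtain ⟨j, rfl⟩ := Subgroup.mem_zpowers_iff.mp (h' ▸ Subgroup.mem_top y)
        exact (Commute.zpow_zpow_self d i j).eq
    have hdH : a ∉ H := hnotH hCT hpa.1 ha1
    have heq : (subStab φ (Subgroup.zpowers d)).map H.subtype = L a := by
      refine hLmax hdH _ (fun x hx => ⟨⟨x, hx.1⟩, ?_, rfl⟩) (Subgroup.map_subtype_le _)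
        fun h => hne (eq_top_iff.mpr fun x _ => ?_)
      · refine (mem_subStab_iff φ).mpr fun y hy => ?_
        obtain ⟨i, rfl⟩ := hy
        rw [map_zpow]
        rcases hconj ⟨x, hx.1⟩ hx with ⟨-, e'⟩ | e' <;> rw [e']
        · exact ⟨i, rfl⟩
        · exact ⟨-i, by simp⟩
      · obtain ⟨y, hy, hyx⟩ : (x : G) ∈ (subStab φ (Subgroup.zpowers d)).map H.subtype := by rw [h]; exact x.2
        rwa [← Subtype.ext hyx]
    refine ⟨⟨hne, fun K hK => ?_⟩, fun u hu => ?_⟩
    · by_contra hKne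
      have hK2 : K.map H.subtype = L a := by
        refine hLmax hdH _ (heq ▸ Subgroup.map_mono hK.le) (Subgroup.map_subtype_le _)
          fun h => hKne (eq_top_iff.mpr fun x _ => ?_)
        obtain ⟨y, hy, hyx⟩ := (h.symm ▸ x.2 : (x : G) ∈ K.map H.subtype)
        rwa [← Subtype.ext hyx]
      exact hK.ne (Subgroup.map_injective H.subtype_injective (heq.trans hK2.symm))
    · have huL : ((u : H) : G) ∈ L a := heq ▸ ⟨(u : H), hu, rfl⟩
      have hm := (memL haN (u : H).2).mp huL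
      have huW : cj ((u : H) : G) T = T := hNfix _ (u.2 : ((u : H) : G) ∈ D).1 T hCT
      have h3 := inv_mul_eq_one.mp (hD1 T hCT _
        (mul_mem (inv_mem hpa.1) (huW ▸ conj_mem_cj hpa.1)) hm)
      have hpc := pr_cj ((u : H) : G) hpa
      rw [huW, ← h3] at hpc
      have := hinj2 T hCT _ (hDnorm _ (u : H).2 _ d.2) _ d.2 a hpc hpa
      rw [mul_inv_eq_iff_eq_mul] at this
      exact Subtype.ext (Subtype.ext this)
  exact false_of_twist hnaD φ (fun u => (u : H))
    (fun u x => Subtype.ext (by simp [φ, MulAut.conjNormal_apply]))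
    (fun t ht => (hkey t ht).1) fun t u ht hu => (hkey t ht).2 u hu

end Cfsg.Agent.Lib.ExtremelyPrimitive
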