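import Cfsg.Agent.Lib.Frobenius.Kernel
import Cfsg.Agent.Lib.Solvable.ThompsonComplement
import Cfsg.Agent.Lib.PLocal.ClosedTest

/-!
A simple group on which a group containing all inner automorphisms acts in such a way that the
stabilizer of every cyclic subgroup is maximal and centralizes the generator inside the simple
group does not exist.
-/

set_option autoImplicit false

namespace Cfsg.Agent.Lib.ExtremelyPrimitive

open Cfsg.Agent.Lib

universe u v

variable {H : Type v} {N : Type u} [Group H] [Group N]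

/-- The stabilizer of a subgroup under an action by automorphisms. -/
def subStab (φ : H →* MulAut N) (K : Subgroup N) : Subgroup H where
  carrier := {h | K.map (φ h).toMonoidHom = K}
  one_mem' := by
    show K.map (φ 1).toMonoidHom = K
    ext x; simp
  mul_mem' := by
    intro a b ha hb
    show K.map (φ (a * b)).toMonoidHom = K
    have : (φ (a * b)).toMonoidHom = (φ a).toMonoidHom.comp (φ b).toMonoidHom := by
      ext x; simp
    rw [this, ← Subgroup.map_map, hb, ha]
  inv_mem' := by
    intro a ha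
    show K.map (φ a⁻¹).toMonoidHom = K
    conv_lhs => rw [← (ha : K.map (φ a).toMonoidHom = K)]
    rw [Subgroup.map_map]
    ext x; simp

theorem mem_subStab_iff [Finite N] (φ : H →* MulAut N) {K : Subgroup N} {h : H} :
    h ∈ subStab φ K ↔ ∀ x ∈ K, φ h x ∈ K := by
  refine ⟨fun hh x hx => ?_, fun hh => ?_⟩
  · have : φ h x ∈ K.map (φ h).toMonoidHom := ⟨x, hx, rfl⟩
    rwa [show K.map (φ h).toMonoidHom = K from hh] at this
  · show K.map (φ h).toMonoidHom = K
    refine Subgroup.eq_of_le_of_card_ge ?_ ?_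
    · rintro _ ⟨x, hx, rfl⟩
      exact hh x hx
    · rw [Subgroup.card_map_of_injective (φ h).injective]

/-- The twist lemma. -/
theorem false_of_twist [Finite N] [IsSimpleGroup N] (hna : ¬ ∀ a b : N, a * b = b * a)
    (φ : H →* MulAut N) (ι : N → H) (hι : ∀ u x, φ (ι u) x = u * x * u⁻¹)
    (hmax : ∀ t : N, t ≠ 1 → IsCoatom (subStab φ (Subgroup.zpowers t)))
    (hC : ∀ t u : N, t ≠ 1 → ι u ∈ subStab φ (Subgroup.zpowers t) → Commute u t) : False := by
  classical
  let S : N → Subgroup H := fun t => subStab φ (Subgroup.zpowers t)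
  let C : N → Subgroup N := fun t => Subgroup.centralizer ({t} : Set N)
  have memC : ∀ {t u : N}, u ∈ C t ↔ Commute u t := fun {t u} =>
    Subgroup.mem_centralizer_singleton_iff
  have hCS : ∀ {t u : N}, t ≠ 1 → (u ∈ C t ↔ ι u ∈ S t) := by
    intro t u ht
    refine ⟨fun hu => (mem_subStab_iff φ).mpr ?_, fun hu => memC.mpr (hC t u ht hu)⟩
    intro x hx
    obtain ⟨i, rfl⟩ := hx
    rw [hι]
    have hc : Commute u (t ^ i) := (memC.mp hu).zpow_right i
    rw [hc.eq, mul_inv_cancel_right]
    exact ⟨i, rfl⟩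
  have hCeq : ∀ {t u : N}, t ≠ 1 → u ≠ 1 → S t = S u → C t = C u := by
    intro t u ht hu h
    ext x
    rw [hCS ht, hCS hu, h]
  -- a power has the same stabilizer
  have hpow : ∀ {w v : N}, w ≠ 1 → v ≠ 1 → v ∈ Subgroup.zpowers w → S w = S v := by
    intro w v hw hv hvw
    have hle : S w ≤ S v := by
      intro h hh
      obtain ⟨i, hi⟩ := (mem_subStab_iff φ).mp hh w (Subgroup.mem_zpowers w)
      refine (mem_subStab_iff φ).mpr fun x hx => ?_
      obtain ⟨k, rfl⟩ := hx
      obtain ⟨j, rfl⟩ := hvw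
      refine ⟨i * k, ?_⟩
      simp only [map_zpow]
      rw [← hi]
      simp only [← zpow_mul]
      congr 1
      ring
    rcases (hmax w hw).le_iff.mp hle with h | h
    · exact absurd h (hmax v hv).1
    · exact h.symm
  -- coprime commuting elements
  have hcop : ∀ {t u : N}, t ≠ 1 → u ≠ 1 → Commute t u → (orderOf t).Coprime (orderOf u) →
      C t = C u := by
    have key : ∀ {a b : N}, a ≠ 1 → Commute a b → (orderOf a).Coprime (orderOf b) →
        S (a * b) = S a := by
      intro a b ha hab hco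
      obtain ⟨n, hn⟩ := exists_pow_eq_self_of_coprime (x := a) hco.symm
      have e : (a * b) ^ (orderOf b * n) = a := by
        rw [pow_mul, hab.mul_pow, pow_orderOf_eq_one, mul_one, hn]
      have hab1 : a * b ≠ 1 := fun h => ha (by rw [← e, h, one_pow])
      exact hpow hab1 ha ⟨((orderOf b * n : ℕ) : ℤ), by simp only [zpow_natCast]; exact e⟩
    intro t u ht hu hc hco
    refine hCeq ht hu ?_
    rw [← key ht hc hco, hc.eq, key hu hc.symm hco.symm]
  -- invariant subgroups have small normalizers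
  have hnorm : ∀ {t : N} {X : Subgroup N}, t ≠ 1 → X ≠ ⊥ → X ≠ ⊤ → S t ≤ subStab φ X →
      Subgroup.normalizer (X : Set N) ≤ C t := by
    intro t X ht hX1 hX2 hle
    have hne : subStab φ X ≠ ⊤ := by
      intro h
      have hn : X.Normal := ⟨fun x hx g => by
        rw [← hι]
        exact (mem_subStab_iff φ).mp (h ▸ Subgroup.mem_top (ι g)) x hx⟩
      rcases hn.eq_bot_or_eq_top with h' | h'
      · exact hX1 h'
      · exact hX2 h'
    have heq : subStab φ X = S t := ((hmax t ht).le_iff.mp hle).resolve_left hne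
    intro u hu
    rw [hCS ht, ← heq]
    refine (mem_subStab_iff φ).mpr fun x hx => ?_
    rw [hι]
    exact (Subgroup.mem_normalizer_iff.mp hu x).mp hx
  -- the stabilizer of `t` stabilizes the centralizer of `t`
  have hSC : ∀ {t : N}, t ≠ 1 → S t ≤ subStab φ (C t) := by
    intro t ht h hh
    refine (mem_subStab_iff φ).mpr fun x hx => ?_
    have hmap : (Subgroup.zpowers t).map (φ h).toMonoidHom = Subgroup.zpowers t := hh
    obtain ⟨y, hy, hyt⟩ := hmap.symm.le (Subgroup.mem_zpowers t)
    obtain ⟨i, rfl⟩ := hy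
    rw [memC, ← hyt]
    exact ((memC.mp hx).zpow_right i).map (φ h).toMonoidHom
  have hCtop : ∀ {t : N}, t ≠ 1 → C t ≠ ⊤ := by
    intro t ht h
    have hz : t ∈ Subgroup.center N :=
      Subgroup.mem_center_iff.mpr fun g => memC.mp (h ▸ Subgroup.mem_top g)
    rcases (inferInstance : (Subgroup.center N).Normal).eq_bot_or_eq_top with h' | h'
    · exact ht (Subgroup.mem_bot.mp (h' ▸ hz))
    · exact hna fun a b => (Subgroup.mem_center_iff.mp (h' ▸ Subgroup.mem_top b) a)
  have hself : ∀ {t : N}, t ∈ C t := fun {t} => memC.mpr (Commute.refl t)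
  have hCbot : ∀ {t : N}, t ≠ 1 → C t ≠ ⊥ := fun {t} ht h =>
    ht (Subgroup.mem_bot.mp (h ▸ hself))
  -- no centralizer is shared by all its elements
  have hab : ∀ {t : N}, t ≠ 1 → ¬ ∀ a ∈ C t, a ≠ 1 → C a = C t := by
    intro t ht hab
    have hfc : Cfsg.IsFrobeniusComplement (C t) := by
      refine ⟨hCbot ht, hCtop ht, fun g hg => ?_⟩
      rw [Subgroup.eq_bot_iff_forall]
      intro a ha
      by_contra ha1
      apply hg
      refine hnorm ht (hCbot ht) (hCtop ht) (hSC ht) (Coprime.mem_normalizer_of_conj_smul_eq ?_)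
      obtain ⟨h1, h2⟩ := ha
      have hb1 : g⁻¹ * a * g ≠ 1 := fun h => ha1 (by
        have := congrArg (fun z => g * z * g⁻¹) h
        simpa [mul_assoc] using this)
      have hb : g⁻¹ * a * g ∈ C t := Coprime.mem_conj_smul.mp h2
      have e1 := hab a h1 ha1
      have e2 := hab _ hb hb1
      ext z
      rw [Coprime.mem_conj_smul]
      nth_rewrite 1 [← e2]
      rw [← e1]
      rw [memC, memC, commute_iff_eq, commute_iff_eq]
      constructor <;> intro h
      · calc z * a = g * ((g⁻¹ * z * g) * (g⁻¹ * a * g)) * g⁻¹ := by group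
          _ = g * ((g⁻¹ * a * g) * (g⁻¹ * z * g)) * g⁻¹ := by rw [h]
          _ = a * z := by group
      · calc g⁻¹ * z * g * (g⁻¹ * a * g) = g⁻¹ * (z * a) * g := by group
          _ = g⁻¹ * (a * z) * g := by rw [h]
          _ = g⁻¹ * a * g * (g⁻¹ * z * g) := by group
    obtain ⟨K, hK, -, hKC, -, hK1, -, -⟩ := Frobenius.exists_frobeniusKernel hfc
    exact hCbot ht (by rwa [hK.eq_bot_or_eq_top.resolve_left hK1, top_inf_eq] at hKC)
  -- there is an odd prime divisor
  obtain ⟨p, hp, hp2, hpd⟩ : ∃ p : ℕ, p.Prime ∧ p ≠ 2 ∧ p ∣ Nat.card N := by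
    by_contra hcon
    push Not at hcon
    haveI := Fact.mk Nat.prime_two
    have h2 : IsPGroup 2 N := IsPGroup.iff_card.mpr ⟨_, Nat.eq_prime_pow_of_unique_prime_dvd
      Nat.card_pos.ne' fun {w} hw hwd => by
        by_contra hne
        exact hcon w hw hne hwd⟩
    haveI := h2.center_nontrivial
    rcases (inferInstance : (Subgroup.center N).Normal).eq_bot_or_eq_top with h' | h'
    · exact (Subgroup.nontrivial_iff_ne_bot _).mp this h'
    · exact hna fun a b => (Subgroup.mem_center_iff.mp (h' ▸ Subgroup.mem_top b) a)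
  haveI := Fact.mk hp
  obtain ⟨P⟩ : Nonempty (Sylow p N) := inferInstance
  have hP1 : (P : Subgroup N) ≠ ⊥ := P.ne_bot_of_dvd_card hpd
  obtain ⟨z, hz, hz1⟩ := (Subgroup.bot_or_exists_ne_one _).resolve_left
    (Solvable.ThompsonComplement.center_ne_bot P.isPGroup' hP1)
  -- an element of order `p` there
  obtain ⟨k, hk⟩ := (IsPGroup.iff_orderOf.mp P.isPGroup') ⟨z, hz.1⟩
  rw [Subgroup.orderOf_mk] at hk
  obtain ⟨n, hn⟩ : ∃ n, orderOf (z ^ n) = p := by
    have hdvd : p ∣ orderOf z := by
      rw [hk]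
      refine dvd_pow_self p fun h0 => hz1 ?_
      rw [h0, pow_zero] at hk
      exact orderOf_eq_one_iff.mp hk
    exact ⟨orderOf z / p, orderOf_pow_orderOf_div (orderOf_pos z).ne' hdvd⟩
  have hxZ : z ^ n ∈ (P : Subgroup N) ⊓ Subgroup.centralizer ((P : Subgroup N) : Set N) :=
    Subgroup.pow_mem _ hz n
  generalize z ^ n = x at hn hxZ
  have hx1 : x ≠ 1 := fun h => by rw [h, orderOf_one] at hn; exact hp.ne_one hn.symm
  have hPC : (P : Subgroup N) ≤ C x := fun y hy =>
    memC.mpr (Subgroup.mem_centralizer_iff.mp hxZ.2 y hy)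
  by_cases hq : ∃ w ∈ C x, ∃ u : ℕ, u.Prime ∧ u ≠ p ∧ orderOf w = u
  · -- all elements of `C x` have the same centralizer
    obtain ⟨w, hw, u, hu, hup, hwo⟩ := hq
    have hw1 : w ≠ 1 := fun h => by rw [h, orderOf_one] at hwo; exact hu.ne_one hwo.symm
    have hxw : C x = C w := hcop hx1 hw1 (memC.mp hw).symm
      (by rw [hn, hwo]; exact (Nat.coprime_primes hp hu).mpr hup.symm)
    refine hab hx1 fun a ha ha1 => ?_
    obtain ⟨s, hs, hsd⟩ := Nat.exists_prime_and_dvd fun h => ha1 (orderOf_eq_one_iff.mp h)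
    have hbo : orderOf (a ^ (orderOf a / s)) = s :=
      orderOf_pow_orderOf_div (orderOf_pos a).ne' hsd
    have hb : a ^ (orderOf a / s) ∈ C x := Subgroup.pow_mem _ ha _
    generalize hbdef : a ^ (orderOf a / s) = b at hbo hb
    have hb1 : b ≠ 1 := fun h => by rw [h, orderOf_one] at hbo; exact hs.ne_one hbo.symm
    rw [hCeq ha1 hb1 (hpow ha1 hb1 ⟨((orderOf a / s : ℕ) : ℤ), (zpow_natCast a _).trans hbdef⟩)]
    by_cases hsp : s = p
    · rw [hxw] at hb ⊢
      exact hcop hb1 hw1 (memC.mp hb)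
        (by rw [hbo, hwo, hsp]; exact (Nat.coprime_primes hp hu).mpr hup.symm)
    · exact hcop hb1 hx1 (memC.mp hb)
        (by rw [hn, hbo]; exact (Nat.coprime_primes hs hp).mpr hsp)
  · push Not at hq
    have hCp : IsPGroup p (C x) := IsPGroup.iff_card.mpr
      ⟨_, Nat.eq_prime_pow_of_unique_prime_dvd Nat.card_pos.ne' fun {w} hw hwd => by
        haveI := Fact.mk hw
        obtain ⟨⟨a, haM⟩, ha⟩ := exists_prime_orderOf_dvd_card' (G := C x) w hwd
        by_contra hwp
        exact hq a haM w hw hwp (by rwa [Subgroup.orderOf_mk] at ha)⟩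
    have hPeq : C x = (P : Subgroup N) := P.is_maximal' hCp hPC
    -- the Thompson subgroup
    set J := Cfsg.thompsonSubgroupOf p (P : Subgroup N) with hJ
    have hJP : J ≤ P := Subgroup.map_subtype_le _
    have hSJ : S x ≤ subStab φ J := by
      intro h hh
      have h1 := hSC hx1 hh
      rw [hPeq] at h1
      show J.map (φ h).toMonoidHom = J
      rw [hJ, ← Solvable.ThompsonComplement.thompsonSubgroupOf_map p _ (φ h).injective,
        show (P : Subgroup N).map (φ h).toMonoidHom = P from h1]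
    have hJt : J ≠ ⊤ := fun h => hCtop hx1 (by rw [hPeq]; exact top_le_iff.mp (h ▸ hJP))
    have hNJ : Subgroup.normalizer (J : Set N) ≤ (P : Subgroup N) := hPeq ▸
      hnorm hx1 (Solvable.ThompsonComplement.thompsonSubgroupOf_ne_bot P.isPGroup' hP1) hJt hSJ
    have hCZ : Subgroup.centralizer
        (((P : Subgroup N) ⊓ Subgroup.centralizer ((P : Subgroup N) : Set N) : Subgroup N) : Set N)
        ≤ (P : Subgroup N) := fun y hy => by
      rw [← hPeq]
      exact memC.mpr (Subgroup.mem_centralizer_iff.mp hy x hxZ).symm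
    obtain ⟨Q, K, hK, hKc⟩ := Solvable.ThompsonComplement.hasNormalPComplement hp2 P
      (Cfsg.Agent.Lib.PLocal.hasNormalPComplement_of_isPGroup (P.isPGroup'.to_le hNJ))
      (Cfsg.Agent.Lib.PLocal.hasNormalPComplement_of_isPGroup (P.isPGroup'.to_le hCZ))
    rcases hK.eq_bot_or_eq_top with h | h
    · subst h
      have hQ : (Q : Subgroup N) = ⊤ := Subgroup.isComplement'_bot_left.mp hKc
      refine hCtop hx1 ?_
      rw [hPeq]
      apply Subgroup.eq_top_of_card_eq
      rw [Sylow.card_eq_multiplicity, ← Q.card_eq_multiplicity, hQ, Subgroup.card_top]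
    · subst h
      exact Q.ne_bot_of_dvd_card hpd (Subgroup.isComplement'_top_left.mp hKc)

end Cfsg.Agent.Lib.ExtremelyPrimitive
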